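import Cfsg.Prelude.Def_ChevStructure
import Cfsg.Prelude.Def_LieChev
import Cfsg.Prelude.Def_ChevD4
import Cfsg.Agent.Nodes.RGDChev
import Cfsg.Agent.ChevalleyStructure.TorusRange
import Cfsg.Agent.ChevalleyStructure.StringMem

/-!
# S2539 (subgroups containing a split maximal torus): definitions (helper412)

`K` a finite field, `D` a tabulated datum, everything inside `GL D.Idx K`;
`T = D.diagonalSubgroup K`, `X_r = D.rootSubgroup K r`, elements `xG hD r t`, `nG hD r t`, `hG hD r t` (`Elts`).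

* `Hyp K p D` : the hypotheses of S2539; `Hyp.inList : InList D`;
* `pr D r s = ⟨s, r^∨⟩` (`= TorusRange.pairing D r s`); `IsLong D r`;
* `SF D K F = {r | X_r ≤ F}`, `DF D K F = ⟨X_r : r ∈ SF⟩`, `Good D K F : F = D_F N_F(T)`, `MF D K F = D_F ⊔ N_F(T)`;
* `GS D K S = G(S)`, `Closed D S`, `Std D K F` : the conclusion of S2539;
* `Hr D K r = ⟨h_r(c)⟩`, `chi D K t s` = value of the root `s` at `t ∈ T` (diagonal entry);
* `MinBad D K F` : `F` is a least overgroup of `T` in `G` that is not good;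
* first facts: `hG_conj_xG`, `hG_mem`, `coe_hG_diag`, `tor_conj_xG`, `SF_mono`, `DF_mono`, `DF_le`, ...
-/

set_option autoImplicit false
set_option linter.unusedSectionVars false

namespace Cfsg.Agent.H412.OT

open Cfsg Cfsg.Lie Cfsg.Lie.ChevalleyDatum
open Cfsg.Agent.ChevalleyStructure Cfsg.Agent.ChevalleyStructure.Elts

universe u

/-- The hypotheses of S2539 on the field, the characteristic and the datum. -/
structure Hyp (K : Type u) [Field K] [Fintype K] (p : ℕ) (D : ChevalleyDatum) : Prop where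
  card : 13 ≤ Fintype.card K
  mem : D ∈ [chevG2, chevD4, chevF4, chevE6, chevE7, chevE8]
  ne2 : D ∈ [chevG2, chevD4, chevF4] → p ≠ 2
  ne3 : D = chevG2 → p ≠ 3

theorem inList_of_mem {D : ChevalleyDatum} (h : D ∈ [chevG2, chevD4, chevF4, chevE6, chevE7, chevE8]) :
    InList D := by
  simp only [List.mem_cons, List.not_mem_nil, or_false] at h
  simp only [InList, List.mem_cons, List.not_mem_nil, or_false]
  tauto

theorem Hyp.inList {K : Type u} [Field K] [Fintype K] {p : ℕ} {D : ChevalleyDatum} (h : Hyp K p D) : InList D :=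
  inList_of_mem h.mem

section Defs

variable (D : ChevalleyDatum) (K : Type u) [Field K]

/-- The pairing `⟨s, r^∨⟩` of the root `s` with the coroot of `r` (indices): `h_r(c)` acts on `X_s` by `c ^ pr D r s`. -/
def pr (r s : ℕ) : ℤ := TorusRange.pairing D r s

/-- `r` is a long root: `|⟨s, r^∨⟩| ≤ 1` for all roots `s ≠ ±r` (all roots in the simply laced types). -/
def IsLong (r : ℕ) : Prop := r < D.nroots ∧ ∀ s < D.nroots, s ≠ r → s ≠ D.neg r → |pr D r s| ≤ 1

/-- `S_F` : the (indices of the) root subgroups contained in `F`. -/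
def SF (F : Subgroup (GL D.Idx K)) : Set ℕ := {r | r < D.nroots ∧ D.rootSubgroup K r ≤ F}

/-- `D_F` : the subgroup generated by the root subgroups contained in `F`. -/
def DF (F : Subgroup (GL D.Idx K)) : Subgroup (GL D.Idx K) := ⨆ r ∈ SF D K F, D.rootSubgroup K r

/-- `F = D_F N_F(T)`. -/
def Good (F : Subgroup (GL D.Idx K)) : Prop :=
  ∀ x ∈ F, ∃ d ∈ DF D K F, ∃ n ∈ F, n ∈ Subgroup.normalizer (D.diagonalSubgroup K : Set (GL D.Idx K)) ∧ x = d * n

/-- `M_F = ⟨D_F, N_F(T)⟩` (`= D_F N_F(T)`, as `N_G(T)` permutes the root subgroups). -/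
def MF (F : Subgroup (GL D.Idx K)) : Subgroup (GL D.Idx K) :=
  DF D K F ⊔ (F ⊓ Subgroup.normalizer (D.diagonalSubgroup K : Set (GL D.Idx K)))

/-- `G(S) = ⟨T, X_r : r ∈ S⟩`. -/
def GS (S : Set ℕ) : Subgroup (GL D.Idx K) := D.diagonalSubgroup K ⊔ ⨆ r ∈ S, D.rootSubgroup K r

/-- Closed sets of roots (as in S2539). -/
def Closed (S : Set ℕ) : Prop := ∀ r ∈ S, ∀ s ∈ S, ∀ u, D.chainRoot r s 1 = some u → u ∈ S

/-- The conclusion of S2539. -/
def Std (F : Subgroup (GL D.Idx K)) : Prop :=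
  ∃! S : Set ℕ, S ⊆ {r | r < D.nroots} ∧ Closed D S ∧ GS D K S ≤ F ∧
    F ≤ Subgroup.normalizer (GS D K S : Set (GL D.Idx K))

/-- The one-parameter torus `⟨h_r(c) : c ≠ 0⟩`. -/
def Hr (r : ℕ) : Subgroup (GL D.Idx K) :=
  Subgroup.closure {g | ∃ c : K, c ≠ 0 ∧ (g : Matrix D.Idx D.Idx K) = D.hMat K r c}

/-- The value of the root `s` at `t ∈ T`: the diagonal entry of `t` at `e_s`. -/
noncomputable def chi (t : GL D.Idx K) (s : ℕ) : K :=
  if h : s < D.nroots then (t : Matrix D.Idx D.Idx K) (Sum.inr ⟨s, h⟩) (Sum.inr ⟨s, h⟩) else 1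

/-- `F` is a least overgroup of `T` in `G` that is not good. -/
structure MinBad (F : Subgroup (GL D.Idx K)) : Prop where
  tor : D.diagonalSubgroup K ≤ F
  le : F ≤ D.group K
  bad : ¬ Good D K F
  min : ∀ H : Subgroup (GL D.Idx K), D.diagonalSubgroup K ≤ H → H < F → Good D K H

end Defs

section Basic

variable {D : ChevalleyDatum} {K : Type u} [Field K]

theorem mem_SF {F : Subgroup (GL D.Idx K)} {r : ℕ} : r ∈ SF D K F ↔ r < D.nroots ∧ D.rootSubgroup K r ≤ F := Iff.rfl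

theorem SF_mono {F F' : Subgroup (GL D.Idx K)} (h : F ≤ F') : SF D K F ⊆ SF D K F' := fun _ hr => ⟨hr.1, hr.2.trans h⟩

theorem DF_le (F : Subgroup (GL D.Idx K)) : DF D K F ≤ F := iSup₂_le fun _ hr => hr.2

theorem DF_mono {F F' : Subgroup (GL D.Idx K)} (h : F ≤ F') : DF D K F ≤ DF D K F' :=
  iSup₂_le fun r hr => le_iSup₂ (f := fun r (_ : r ∈ SF D K F') => D.rootSubgroup K r) r (SF_mono h hr)

theorem rootSubgroup_le_DF {F : Subgroup (GL D.Idx K)} {r : ℕ} (hr : r ∈ SF D K F) : D.rootSubgroup K r ≤ DF D K F :=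
  le_iSup₂ (f := fun r (_ : r ∈ SF D K F) => D.rootSubgroup K r) r hr

theorem SF_DF (F : Subgroup (GL D.Idx K)) : SF D K (DF D K F) = SF D K F :=
  Set.Subset.antisymm (SF_mono (DF_le F)) fun _ hr => ⟨hr.1, rootSubgroup_le_DF hr⟩

theorem MF_le (F : Subgroup (GL D.Idx K)) : MF D K F ≤ F := sup_le (DF_le F) inf_le_left

theorem DF_le_MF (F : Subgroup (GL D.Idx K)) : DF D K F ≤ MF D K F := le_sup_left

theorem norm_le_MF (F : Subgroup (GL D.Idx K)) :
    F ⊓ Subgroup.normalizer (D.diagonalSubgroup K : Set (GL D.Idx K)) ≤ MF D K F := le_sup_right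

theorem tor_le_norm (D : ChevalleyDatum) (K : Type u) [Field K] :
    D.diagonalSubgroup K ≤ Subgroup.normalizer (D.diagonalSubgroup K : Set (GL D.Idx K)) := Subgroup.le_normalizer

theorem tor_le_MF {F : Subgroup (GL D.Idx K)} (hF : D.diagonalSubgroup K ≤ F) : D.diagonalSubgroup K ≤ MF D K F :=
  (le_inf hF (tor_le_norm D K)).trans (norm_le_MF F)

/-- A good group is `M_F`. -/
theorem Good.le_MF {F : Subgroup (GL D.Idx K)} (h : Good D K F) : F ≤ MF D K F := by
  intro x hx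
  obtain ⟨d, hd, n, hn, hn', rfl⟩ := h x hx
  exact mul_mem (DF_le_MF F hd) (norm_le_MF F ⟨hn, hn'⟩)

theorem Good.eq_MF {F : Subgroup (GL D.Idx K)} (h : Good D K F) : MF D K F = F := le_antisymm (MF_le F) h.le_MF

theorem Std_iff (F : Subgroup (GL D.Idx K)) : Std D K F ↔
    ∃! S : Set ℕ, S ⊆ {r | r < D.nroots} ∧ (∀ r ∈ S, ∀ s ∈ S, ∀ u, D.chainRoot r s 1 = some u → u ∈ S) ∧
      (D.diagonalSubgroup K ⊔ ⨆ r ∈ S, D.rootSubgroup K r) ≤ F ∧ F ≤ Subgroup.normalizer
        ((D.diagonalSubgroup K ⊔ ⨆ r ∈ S, D.rootSubgroup K r : Subgroup (GL D.Idx K)) : Set (GL D.Idx K)) := Iff.rfl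

theorem allDiag (hD : InList D) : TorusRange.AllDiag D K := fun _ hr _ hc => StringMem.hMat_eq hD hr hc

theorem simpleDiag (hD : InList D) : TorusRange.SimpleDiag D K := by
  intro i hi c hc
  have h := StringMem.hMat_eq hD (F := K) (NPerm.simple_lt hD hi) hc
  simpa only [StringMem.cartanR_simple hD hi] using h

/-- The matrix of `h_r(c)`. -/
theorem coe_hG_diag (hD : InList D) {r : ℕ} (hr : r < D.nroots) {c : K} (hc : c ≠ 0) :
    (hG hD r c : Matrix D.Idx D.Idx K) =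
      Matrix.diagonal (Sum.elim (fun _ => (1 : K)) (fun s : Fin D.nroots => c ^ pr D r s)) := by
  rw [coe_hG]
  exact allDiag hD r hr c hc

theorem hG_mem (hD : InList D) {r : ℕ} (hr : r < D.nroots) {c : K} (hc : c ≠ 0) :
    hG hD r c ∈ D.diagonalSubgroup K := hG_mem_diagonal hD hr hc

theorem Hr_le (hD : InList D) {r : ℕ} (hr : r < D.nroots) : Hr D K r ≤ D.diagonalSubgroup K := by
  refine (Subgroup.closure_le _).2 ?_
  rintro g ⟨c, hc, hg⟩
  exact Subgroup.subset_closure ⟨r, c, hr, hc, hg⟩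

theorem hG_mem_Hr (hD : InList D) (r : ℕ) {c : K} (hc : c ≠ 0) : hG hD r c ∈ Hr D K r :=
  Subgroup.subset_closure ⟨c, hc, coe_hG hD r c⟩

theorem hG_simple_conj (hD : InList D) {i s : ℕ} (hi : i < D.rank) (hs : s < D.nroots) {c : K} (hc : c ≠ 0)
    (a : K) : hG hD (D.simple i) c * xG hD s a * (hG hD (D.simple i) c)⁻¹ = xG hD s (c ^ D.cartan i s * a) := by
  rw [mul_inv_eq_iff_eq_mul]
  exact Units.ext (Cfsg.Agent.S1032.result (F := K) D hD i s hi hs c hc a)

theorem exists_prod (hD : InList D) (c : ℕ → K) (hc : ∀ i < D.rank, c i ≠ 0) (n : ℕ) (hn : n ≤ D.rank) :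
    ∃ t ∈ D.diagonalSubgroup K, (t : Matrix D.Idx D.Idx K) =
        D.wordMat K ((List.range n).flatMap fun i => D.hWord (D.simple i) (c i)) ∧
      ∀ s < D.nroots, ∀ a, t * xG hD s a * t⁻¹ = xG hD s ((∏ i ∈ Finset.range n, c i ^ D.cartan i s) * a) := by
  induction n with
  | zero =>
    refine ⟨1, one_mem _, ?_, fun s _ a => ?_⟩
    · rw [List.range_zero, List.flatMap_nil, TorusRange.wordMat_nil]; rfl
    · rw [Finset.range_zero, Finset.prod_empty, one_mul, one_mul, inv_one, mul_one]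
  | succ n ih =>
    obtain ⟨t, ht, e, h1⟩ := ih (by omega)
    have hn' : n < D.rank := by omega
    have hcn : c n ≠ 0 := hc n hn'
    have hm : hG hD (D.simple n) (c n) ∈ D.diagonalSubgroup K := hG_mem_diagonal hD (NPerm.simple_lt hD hn') hcn
    refine ⟨t * hG hD (D.simple n) (c n), mul_mem ht hm, ?_, fun s hs a => ?_⟩
    · rw [Units.val_mul, e, List.range_succ, List.flatMap_append, TorusRange.wordMat_append,
        List.flatMap_cons, List.flatMap_nil, List.append_nil]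
      congr 1
    · have e2 : t * hG hD (D.simple n) (c n) * xG hD s a * (t * hG hD (D.simple n) (c n))⁻¹ =
          t * (hG hD (D.simple n) (c n) * xG hD s a * (hG hD (D.simple n) (c n))⁻¹) * t⁻¹ := by
        group
      rw [e2, hG_simple_conj hD hn' hs hcn, h1 s hs, Finset.prod_range_succ, mul_assoc]

/-- The elements of `T` : `t = ∏ h_{p_i}(c_i)`, its matrix and its action on the root elements. -/
theorem tor_data (hD : InList D) {t : GL D.Idx K} (ht : t ∈ D.diagonalSubgroup K) :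
    ∃ c : ℕ → K, (∀ i < D.rank, c i ≠ 0) ∧
      (t : Matrix D.Idx D.Idx K) = Matrix.diagonal (Sum.elim (fun _ => (1 : K))
        (fun s : Fin D.nroots => ∏ i ∈ Finset.range D.rank, c i ^ D.cartan i s)) ∧
      ∀ s < D.nroots, ∀ a, t * xG hD s a * t⁻¹ =
        xG hD s ((∏ i ∈ Finset.range D.rank, c i ^ D.cartan i s) * a) := by
  obtain ⟨c, hc, e⟩ := TorusRange.exists_word (simpleDiag hD) (allDiag hD) t ht
  obtain ⟨t', ht', e', h1⟩ := exists_prod hD c hc D.rank le_rfl
  have h2 : t' = t := Units.ext (by rw [e', e])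
  subst h2
  exact ⟨c, hc, by rw [e', TorusRange.wordMat_flatMap_range (simpleDiag hD) c hc D.rank le_rfl], h1⟩

/-- The matrix of an element of `T`. -/
theorem coe_tor (hD : InList D) {t : GL D.Idx K} (ht : t ∈ D.diagonalSubgroup K) :
    (t : Matrix D.Idx D.Idx K) =
      Matrix.diagonal (Sum.elim (fun _ => (1 : K)) (fun s : Fin D.nroots => chi D K t s)) := by
  obtain ⟨c, hc, e, h1⟩ := tor_data hD ht
  rw [e]
  congr 1
  funext x
  rcases x with i | s
  · rfl
  · rw [Sum.elim_inr, Sum.elim_inr, chi, dif_pos s.2, e, Matrix.diagonal_apply_eq, Sum.elim_inr]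

/-- `T` acts on `X_s` through `chi`. -/
theorem tor_conj_xG (hD : InList D) {t : GL D.Idx K} (ht : t ∈ D.diagonalSubgroup K) {s : ℕ} (hs : s < D.nroots)
    (a : K) : t * xG hD s a * t⁻¹ = xG hD s (chi D K t s * a) := by
  obtain ⟨c, hc, e, h1⟩ := tor_data hD ht
  rw [h1 s hs, chi, dif_pos hs, e, Matrix.diagonal_apply_eq, Sum.elim_inr]

theorem chi_ne_zero (hD : InList D) {t : GL D.Idx K} (ht : t ∈ D.diagonalSubgroup K) (s : ℕ) :
    chi D K t s ≠ 0 := by
  by_cases hs : s < D.nroots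
  · obtain ⟨c, hc, e, h1⟩ := tor_data hD ht
    rw [chi, dif_pos hs, e, Matrix.diagonal_apply_eq, Sum.elim_inr, Finset.prod_ne_zero_iff]
    exact fun i hi => zpow_ne_zero _ (hc i (Finset.mem_range.1 hi))
  · rw [chi, dif_neg hs]
    exact one_ne_zero

theorem chi_one (s : ℕ) : chi D K 1 s = 1 := by
  unfold chi
  split_ifs with h
  · rw [Units.val_one, Matrix.one_apply_eq]
  · rfl

theorem chi_mul (hD : InList D) {t t' : GL D.Idx K} (ht : t ∈ D.diagonalSubgroup K)
    (ht' : t' ∈ D.diagonalSubgroup K) (s : ℕ) : chi D K (t * t') s = chi D K t s * chi D K t' s := by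
  by_cases hs : s < D.nroots
  · have h := coe_tor hD ht
    have h' := coe_tor hD ht'
    have e : chi D K (t * t') s = ((t * t' : GL D.Idx K) : Matrix D.Idx D.Idx K) (Sum.inr ⟨s, hs⟩) (Sum.inr ⟨s, hs⟩) := by
      rw [chi, dif_pos hs]
    rw [e, Units.val_mul, h, h', Matrix.diagonal_mul_diagonal, Matrix.diagonal_apply_eq, Sum.elim_inr, Sum.elim_inr]
  · simp only [chi, dif_neg hs, mul_one]

theorem chi_hG (hD : InList D) {r s : ℕ} (hr : r < D.nroots) (hs : s < D.nroots) {c : K} (hc : c ≠ 0) :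
    chi D K (hG hD r c) s = c ^ pr D r s := by
  rw [chi, dif_pos hs, coe_hG_diag hD hr hc, Matrix.diagonal_apply_eq, Sum.elim_inr]

/-- **`h_r(c) x_s(a) h_r(c)⁻¹ = x_s(c^⟨s, r^∨⟩ a)`.** -/
theorem hG_conj_xG (hD : InList D) {r s : ℕ} (hr : r < D.nroots) (hs : s < D.nroots) {c : K} (hc : c ≠ 0)
    (a : K) : hG hD r c * xG hD s a * (hG hD r c)⁻¹ = xG hD s (c ^ pr D r s * a) := by
  rw [tor_conj_xG hD (hG_mem hD hr hc) hs, chi_hG hD hr hs hc]

/-- `T` normalises the root subgroups. -/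
theorem tor_conj_root (hD : InList D) {t : GL D.Idx K} (ht : t ∈ D.diagonalSubgroup K) {s : ℕ} (hs : s < D.nroots)
    {x : GL D.Idx K} (hx : x ∈ D.rootSubgroup K s) : t * x * t⁻¹ ∈ D.rootSubgroup K s := by
  obtain ⟨a, rfl⟩ := (mem_rootSubgroup_iff hD s x).1 hx
  rw [tor_conj_xG hD ht hs]
  exact xG_mem_rootSubgroup hD s _

end Basic

end Cfsg.Agent.H412.OT
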