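import Cfsg.Agent.H175.OT.P
import Cfsg.Agent.H274.OT.BT

/-!
# S2539, mixed case (helper412): `f T f⁻¹ ≤ M` implies `f ∈ M` if `D_F = V D_a`, `V ⊴ M` a `p`-group
-/

set_option autoImplicit false

namespace Cfsg.Agent.H412.OT

open Cfsg.Lie Cfsg.Agent.ChevalleyStructure Cfsg.Agent.ChevalleyStructure.Elts Subgroup
open Cfsg.Agent.H175.OT (DS)

universe u

variable {D : ChevalleyDatum} {K : Type u} [Field K]

theorem hd_sq : (Cfsg.Agent.H194.OT.hd (-1 : Kˣ)) ^ 2 = 1 := by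
  rw [pow_two]
  apply Subtype.ext
  have h1 : (Cfsg.Agent.H194.OT.hd (-1 : Kˣ)).1 = !![(-1 : K), 0; 0, -1] := by
    simp [Cfsg.Agent.H194.OT.hd, Cfsg.Agent.H194.OT.mk2]
  show (Cfsg.Agent.H194.OT.hd (-1 : Kˣ)).1 * (Cfsg.Agent.H194.OT.hd (-1 : Kˣ)).1 = 1
  rw [h1, Matrix.mul_fin_two, Matrix.one_fin_two]
  norm_num

/-- a `p`-subgroup of `D_a` normalised by `D_a` is trivial (`p ≠ 2`) -/
theorem eq_bot_of_norm_DS [Fintype K] {p : ℕ} [Fact p.Prime] [CharP K p] (h : Hyp K p D) (h2 : (2 : K) ≠ 0)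
    {a : ℕ} (ha : a < D.nroots) (hodd : ∃ b < D.nroots, Odd (pr D a b)) {N : Subgroup (GL D.Idx K)}
    (hN : N ≤ DS D K a) (hn : ∀ x ∈ DS D K a, ∀ y ∈ N, x * y * x⁻¹ ∈ N) (hp : IsPGroup p N) : N = ⊥ := by
  have hD := h.inList
  have hK : 3 < Fintype.card K := by
    have := h.card
    omega
  have hp2 : p ≠ 2 := by
    rintro rfl
    exact h2 (by exact_mod_cast CharP.cast_eq_zero K 2)
  have hsq : ∀ y ∈ N, y ^ 2 = 1 → y = 1 := by
    intro y hy hy2
    obtain ⟨k, hk⟩ := hp ⟨y, hy⟩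
    have hk' : y ^ p ^ k = 1 := congrArg Subtype.val hk
    have h1 : orderOf y ∣ 2 := orderOf_dvd_of_pow_eq_one hy2
    have h3 : orderOf y ∣ p ^ k := orderOf_dvd_of_pow_eq_one hk'
    have h4 : Nat.Coprime 2 (p ^ k) :=
      Nat.Coprime.pow_right _ ((Nat.coprime_primes Nat.prime_two (Fact.out : p.Prime)).2 hp2.symm)
    exact orderOf_eq_one_iff.1 (Nat.eq_one_of_dvd_coprimes h4 h1 h3)
  have hinj := Cfsg.Agent.H175.OT.ph_injective hD ha hK h2 hodd
  have hcen : ∀ y ∈ N, (∀ x ∈ DS D K a, x * y = y * x) → y = 1 := by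
    intro y hy hc
    obtain ⟨A, rfl⟩ := (Cfsg.Agent.H175.OT.mem_DS_iff hD ha).1 (hN hy)
    have hA : A ∈ center (Matrix.SpecialLinearGroup (Fin 2) K) := by
      rw [mem_center_iff]
      intro B
      apply hinj
      rw [map_mul, map_mul]
      exact hc _ (Cfsg.Agent.H175.OT.ph_mem hD ha B)
    rcases Cfsg.Agent.H175.OT.center_SL2 hA with rfl | rfl
    · exact map_one _
    · refine hsq _ hy ?_
      rw [← map_pow]
      rw [hd_sq, map_one]
  rcases Cfsg.Agent.H175.OT.normal_cases hD ha hK hN hn with e | hc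
  · -- `D_a` would be a `p`-group: `h_a(-1)` has order two
    exfalso
    have hz : Cfsg.Agent.H194.OT.ph hD ha K (Cfsg.Agent.H194.OT.hd (-1 : Kˣ)) ∈ N := by
      rw [e]
      exact Cfsg.Agent.H175.OT.ph_mem hD ha _
    have h1 := hsq _ hz (by rw [← map_pow, hd_sq, map_one])
    have h3 : Cfsg.Agent.H194.OT.hd (-1 : Kˣ) = 1 := hinj (h1.trans (map_one _).symm)
    have h4 : ((-1 : Kˣ) : K) = 1 := congrFun (congrFun (congrArg Subtype.val h3) 0) 0
    rw [Units.val_neg, Units.val_one] at h4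
    apply h2
    linear_combination -h4
  · rw [eq_bot_iff]
    intro y hy
    exact mem_bot.2 (hcen y hy (fun x hx => (hc y hy x hx)))

/-- **(B)** for the mixed case -/
theorem mem_of_tor_V [Fintype K] {p : ℕ} [Fact p.Prime] [CharP K p] (h : Hyp K p D) (h2 : (2 : K) ≠ 0)
    {F : Subgroup (GL D.Idx K)} (hF : MinBad D K F) {V : Subgroup (GL D.Idx K)} {a : ℕ} (ha : a < D.nroots)
    (hodd : ∃ b < D.nroots, Odd (pr D a b)) (hV1 : V ≠ ⊥) (hVp : IsPGroup p V) (hVF : V ≤ F)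
    (hMV : MF D K F ≤ normalizer (V : Set (GL D.Idx K))) (hDF : DF D K F = V ⊔ DS D K a)
    {f : GL D.Idx K} (hf : f ∈ F) (hft : ∀ t ∈ D.diagonalSubgroup K, f * t * f⁻¹ ∈ MF D K F) :
    f ∈ MF D K F := by
  have hfin : Finite (GL D.Idx K) := inferInstance
  set M := MF D K F with hM
  have hTM : D.diagonalSubgroup K ≤ M := tor_le_MF hF.tor
  set Q : Subgroup (GL D.Idx K) := V.map (MulAut.conj f⁻¹).toMonoidHom with hQ
  have memQ : ∀ x, x ∈ Q ↔ f * x * f⁻¹ ∈ V := by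
    intro x
    constructor
    · rintro ⟨v, hv, rfl⟩
      have : f * (f⁻¹ * v * f⁻¹⁻¹) * f⁻¹ = v := by group
      show f * (f⁻¹ * v * f⁻¹⁻¹) * f⁻¹ ∈ V
      rwa [this]
    · intro hx
      refine ⟨_, hx, ?_⟩
      show f⁻¹ * (f * x * f⁻¹) * f⁻¹⁻¹ = x
      group
  have hQp : IsPGroup p Q := hVp.map _
  have hQF : Q ≤ F := by
    rintro _ ⟨v, hv, rfl⟩
    exact F.mul_mem (F.mul_mem (F.inv_mem hf) (hVF hv)) (F.inv_mem (F.inv_mem hf))
  have hQ1 : Q ≠ ⊥ := by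
    intro e
    apply hV1
    rw [hQ, map_eq_bot_iff_of_injective _ (MulAut.conj f⁻¹).injective] at e
    exact e
  -- elements `y` with `f y f⁻¹ ∈ M` normalise `Q`
  have hnorm : ∀ y : GL D.Idx K, f * y * f⁻¹ ∈ M → y ∈ normalizer (Q : Set (GL D.Idx K)) := by
    intro y hy
    rw [mem_normalizer_iff]
    intro x
    rw [memQ, memQ, mem_normalizer_iff.1 (hMV hy) (f * x * f⁻¹)]
    have : f * y * f⁻¹ * (f * x * f⁻¹) * (f * y * f⁻¹)⁻¹ = f * (y * x * y⁻¹) * f⁻¹ := by group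
    rw [this]
  have hTQ : D.diagonalSubgroup K ≤ normalizer (Q : Set (GL D.Idx K)) := fun t ht => hnorm t (hft t ht)
  have hloc := hF.loc h hQF hQp hQ1 hTQ
  -- `f⁻¹ M f = M`
  have hle : M.map (MulAut.conj f⁻¹).toMonoidHom ≤ M := by
    rintro _ ⟨m, hm, rfl⟩
    refine hloc ⟨?_, hnorm _ ?_⟩
    · exact F.mul_mem (F.mul_mem (F.inv_mem hf) (MF_le F hm)) (F.inv_mem (F.inv_mem hf))
    · show f * (f⁻¹ * m * f⁻¹⁻¹) * f⁻¹ ∈ M
      have : f * (f⁻¹ * m * f⁻¹⁻¹) * f⁻¹ = m := by group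
      rwa [this]
  have heq : M.map (MulAut.conj f⁻¹).toMonoidHom = M := by
    refine eq_of_le_of_card_ge hle ?_
    rw [card_map_of_injective (MulAut.conj f⁻¹).injective]
  have hMQ : M ≤ normalizer (Q : Set (GL D.Idx K)) := by
    intro m hm
    rw [← heq] at hm
    obtain ⟨m', hm', rfl⟩ := hm
    refine hnorm _ ?_
    show f * (f⁻¹ * m' * f⁻¹⁻¹) * f⁻¹ ∈ M
    have : f * (f⁻¹ * m' * f⁻¹⁻¹) * f⁻¹ = m' := by group
    rwa [this]
  have hQD : Q ≤ DF D K F := hF.le_DF h hQF hQp hTQ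
  have hDM : DF D K F ≤ M := DF_le_MF F
  have hVD : V ≤ DF D K F := by
    rw [hDF]
    exact le_sup_left
  have hDSD : DS D K a ≤ DF D K F := by
    rw [hDF]
    exact le_sup_right
  -- `W = V Q`
  have hQNV : Q ≤ normalizer (V : Set (GL D.Idx K)) := (hQD.trans hDM).trans hMV
  have hWp : IsPGroup p (V ⊔ Q : Subgroup (GL D.Idx K)) := by
    have := IsPGroup.to_sup_of_normal_left' hVp hQp hQNV
    exact this
  have hMW : M ≤ normalizer ((V ⊔ Q : Subgroup (GL D.Idx K)) : Set (GL D.Idx K)) := by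
    intro m hm
    have key : ∀ m ∈ M, (V ⊔ Q : Subgroup (GL D.Idx K)) ≤ (V ⊔ Q).comap (MulAut.conj m).toMonoidHom := by
      intro m hm
      refine sup_le (fun x hx => ?_) (fun x hx => ?_)
      · exact mem_sup_left ((mem_normalizer_iff.1 (hMV hm) x).1 hx)
      · exact mem_sup_right ((mem_normalizer_iff.1 (hMQ hm) x).1 hx)
    rw [mem_normalizer_iff]
    intro x
    refine ⟨fun hx => key m hm hx, fun hx => ?_⟩
    have h1 : m⁻¹ * (m * x * m⁻¹) * m⁻¹⁻¹ ∈ V ⊔ Q := key m⁻¹ (M.inv_mem hm) hx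
    have h3 : m⁻¹ * (m * x * m⁻¹) * m⁻¹⁻¹ = x := by group
    rwa [h3] at h1
  have hN : (V ⊔ Q) ⊓ DS D K a = ⊥ := by
    refine eq_bot_of_norm_DS h h2 ha hodd inf_le_right ?_ (hWp.to_le inf_le_left)
    intro x hx y hy
    refine ⟨(mem_normalizer_iff.1 (hMW (hDM (hDSD hx))) y).1 hy.1, ?_⟩
    exact (DS D K a).mul_mem ((DS D K a).mul_mem hx hy.2) ((DS D K a).inv_mem hx)
  have hQV : Q ≤ V := by
    intro x hx
    have h1 : x ∈ ((V ⊔ DS D K a : Subgroup (GL D.Idx K)) : Set (GL D.Idx K)) := by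
      have := hQD hx
      rw [hDF] at this
      exact this
    rw [coe_mul_of_right_le_normalizer_left _ _ ((hDSD.trans hDM).trans hMV), Set.mem_mul] at h1
    obtain ⟨v, hv, d, hd, rfl⟩ := h1
    have h3 : d ∈ (V ⊔ Q) ⊓ DS D K a := by
      refine ⟨?_, hd⟩
      have : d = v⁻¹ * (v * d) := by group
      rw [this]
      exact (V ⊔ Q).mul_mem ((V ⊔ Q).inv_mem (mem_sup_left hv)) (mem_sup_right hx)
    rw [hN, mem_bot] at h3
    rw [h3, mul_one]
    exact hv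
  have hQe : Q = V := by
    refine eq_of_le_of_card_ge hQV ?_
    rw [hQ, card_map_of_injective (MulAut.conj f⁻¹).injective]
  -- `f` normalises `V`
  have hfV : f ∈ normalizer (V : Set (GL D.Idx K)) := by
    rw [mem_normalizer_iff]
    intro x
    rw [← memQ, hQe]
  rw [← hQe] at hfV
  exact hloc ⟨hf, hfV⟩

end Cfsg.Agent.H412.OT
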