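import Cfsg.Agent.H412.OT.SE
import Cfsg.Prelude.Def_Transfer

/-!
# S2539, q odd: constructing `Data M A` (helper412)

`twoPart T` : the 2-elements of an abelian group `T`. `Data.of_odd` : `M = Q (M ⊓ N(T))`, `Q ⊴ M` of odd order with
`Q ⊓ N(T) = 1` (`Q = 1` is allowed) and no conjugate `y t y⁻¹`, `y ∉ M`, of an involution `t` of `T` lies in `M`.
-/

set_option autoImplicit false

namespace Cfsg.Agent.H412.OT.SE

open Subgroup

variable {Y : Type*} [Group Y]

/-- the 2-elements of the abelian group `T` -/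
def twoPart (T : Subgroup Y) (hab : ∀ a ∈ T, ∀ b ∈ T, a * b = b * a) : Subgroup Y where
  carrier := {x | x ∈ T ∧ ∃ k : ℕ, x ^ 2 ^ k = 1}
  one_mem' := ⟨T.one_mem, 0, by simp⟩
  mul_mem' := by
    rintro a b ⟨ha, k, hk⟩ ⟨hb, l, hl⟩
    refine ⟨T.mul_mem ha hb, k + l, ?_⟩
    have hc : Commute a b := hab a ha b hb
    rw [hc.mul_pow, pow_add, pow_mul, hk, one_pow, one_mul, mul_comm, pow_mul, hl, one_pow]
  inv_mem' := by
    rintro a ⟨ha, k, hk⟩
    exact ⟨T.inv_mem ha, k, by rw [inv_pow, hk, inv_one]⟩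

theorem mem_twoPart {T : Subgroup Y} {hab : ∀ a ∈ T, ∀ b ∈ T, a * b = b * a} {x : Y} :
    x ∈ twoPart T hab ↔ x ∈ T ∧ ∃ k : ℕ, x ^ 2 ^ k = 1 := Iff.rfl

theorem twoPart_le {T : Subgroup Y} {hab : ∀ a ∈ T, ∀ b ∈ T, a * b = b * a} : twoPart T hab ≤ T :=
  fun _ hx => hx.1

theorem twoPart_comm {T : Subgroup Y} {hab : ∀ a ∈ T, ∀ b ∈ T, a * b = b * a} :
    ∀ a ∈ twoPart T hab, ∀ b ∈ twoPart T hab, a * b = b * a := fun a ha b hb => hab a ha.1 b hb.1

theorem twoPart_isPGroup {T : Subgroup Y} {hab : ∀ a ∈ T, ∀ b ∈ T, a * b = b * a} :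
    IsPGroup 2 (twoPart T hab) := by
  rintro ⟨x, hx, k, hk⟩
  exact ⟨k, Subtype.ext (by simpa using hk)⟩

theorem twoPart_conj {T : Subgroup Y} {hab : ∀ a ∈ T, ∀ b ∈ T, a * b = b * a} {n a : Y}
    (hn : n ∈ normalizer (T : Set Y)) (ha : a ∈ twoPart T hab) : n * a * n⁻¹ ∈ twoPart T hab := by
  obtain ⟨ha, k, hk⟩ := ha
  refine ⟨(mem_normalizer_iff.1 hn a).1 ha, k, ?_⟩
  rw [conj_pow, hk, mul_one, mul_inv_cancel]

/-- two different involutions of an abelian subgroup generate a four-group -/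
theorem exists_four {A : Subgroup Y} (hab : ∀ a ∈ A, ∀ b ∈ A, a * b = b * a) {s t : Y} (hs : s ∈ A) (ht : t ∈ A)
    (hs2 : orderOf s = 2) (ht2 : orderOf t = 2) (hne : s ≠ t) [Finite Y] :
    ∃ E : Subgroup Y, Cfsg.IsElementaryAbelian 2 E ∧ 2 ^ 2 ≤ Nat.card E ∧ E ≤ A := by
  classical
  let E : Subgroup Y :=
    { carrier := {x | x ∈ A ∧ x ^ 2 = 1}
      one_mem' := ⟨A.one_mem, one_pow 2⟩
      mul_mem' := by
        rintro a b ⟨ha, hk⟩ ⟨hb, hl⟩
        have hc : Commute a b := hab a ha b hb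
        exact ⟨A.mul_mem ha hb, by rw [hc.mul_pow, hk, hl, one_mul]⟩
      inv_mem' := by
        rintro a ⟨ha, hk⟩
        exact ⟨A.inv_mem ha, by rw [inv_pow, hk, inv_one]⟩ }
  have hs' : s ∈ E := ⟨hs, by rw [← hs2]; exact pow_orderOf_eq_one s⟩
  have ht' : t ∈ E := ⟨ht, by rw [← ht2]; exact pow_orderOf_eq_one t⟩
  have hs1 : s ≠ 1 := by
    rintro rfl
    rw [orderOf_one] at hs2
    exact absurd hs2 (by norm_num)
  have ht1 : t ≠ 1 := by
    rintro rfl
    rw [orderOf_one] at ht2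
    exact absurd ht2 (by norm_num)
  have hst : s * t ≠ 1 := by
    intro e
    apply hne
    have h2 : t * t = 1 := by rw [← pow_two]; exact ht'.2
    exact mul_right_cancel (e.trans h2.symm)
  refine ⟨E, ⟨⟨⟨fun x y => Subtype.ext (hab x x.2.1 y y.2.1)⟩⟩, fun a ha => ha.2⟩, ?_, fun x hx => hx.1⟩
  have hsub : ({1, s, t, s * t} : Finset Y) ⊆ Set.Finite.toFinset (Set.toFinite (E : Set Y)) := by
    intro x hx
    rw [Set.Finite.mem_toFinset]
    simp only [Finset.mem_insert, Finset.mem_singleton] at hx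
    rcases hx with rfl | rfl | rfl | rfl
    · exact E.one_mem
    · exact hs'
    · exact ht'
    · exact E.mul_mem hs' ht'
  have hcard : ({1, s, t, s * t} : Finset Y).card = 4 := by
    rw [Finset.card_insert_of_notMem, Finset.card_insert_of_notMem, Finset.card_insert_of_notMem,
      Finset.card_singleton]
    · rw [Finset.mem_singleton]
      intro e
      exact hs1 (mul_right_cancel ((one_mul t).trans e)).symm
    · simp only [Finset.mem_insert, Finset.mem_singleton, not_or]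
      refine ⟨hne, fun e => ht1 ?_⟩
      exact (mul_left_cancel ((mul_one s).trans e)).symm
    · simp only [Finset.mem_insert, Finset.mem_singleton, not_or]
      exact ⟨hs1.symm, ht1.symm, hst.symm⟩
  calc 2 ^ 2 = ({1, s, t, s * t} : Finset Y).card := by rw [hcard]; norm_num
    _ ≤ (Set.Finite.toFinset (Set.toFinite (E : Set Y))).card := Finset.card_le_card hsub
    _ = Nat.card E := by
      rw [← Set.ncard_eq_toFinset_card]
      rfl

section Of

variable [Finite Y] {T M Q : Subgroup Y}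

/-- **`Data M (twoPart T)`** -/
theorem Data.of_odd (hab : ∀ a ∈ T, ∀ b ∈ T, a * b = b * a) (hM : M ≠ ⊤) (hTM : T ≤ M)
    (hno : ∀ y : Y, y ∉ M → ∀ t ∈ T, orderOf t = 2 → y * t * y⁻¹ ∉ M)
    (h2 : ∃ t ∈ T, orderOf t = 2)
    (hQM : Q ≤ M) (hQ : Odd (Nat.card Q)) (hMQ : M ≤ normalizer (Q : Set Y))
    (hQN : ∀ x ∈ Q, x ∈ normalizer (T : Set Y) → x = 1)
    (hdec : ∀ m ∈ M, ∃ u ∈ Q, ∃ n ∈ normalizer (T : Set Y), m = u * n) :
    Data M (twoPart T hab) := by
  classical
  have hfact : Fact (Nat.Prime 2) := ⟨Nat.prime_two⟩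
  have hfus : ∀ y : Y, ∀ a ∈ twoPart T hab, a ≠ 1 → y * a * y⁻¹ ∈ M → y ∈ M := by
    intro y a ha ha1 hy
    by_contra hyM
    -- a power of `a` is an involution
    obtain ⟨k, hk⟩ := ha.2
    have hdvd : 2 ∣ orderOf a := by
      obtain ⟨m, hm, e⟩ := (Nat.dvd_prime_pow Nat.prime_two).1 (orderOf_dvd_of_pow_eq_one hk)
      rw [e]
      refine dvd_pow_self 2 ?_
      rintro rfl
      rw [pow_zero, orderOf_eq_one_iff] at e
      exact ha1 e
    obtain ⟨m, hm⟩ := hdvd
    have hm0 : m ≠ 0 := by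
      rintro rfl
      rw [mul_zero] at hm
      exact (orderOf_pos a).ne' hm
    have ho : orderOf (a ^ m) = 2 := by
      rw [orderOf_pow_of_dvd hm0 (hm ▸ Dvd.intro_left 2 rfl), hm]
      exact Nat.mul_div_cancel _ (Nat.pos_of_ne_zero hm0)
    refine hno y hyM (a ^ m) (T.pow_mem ha.1 m) ho ?_
    rw [← conj_pow]
    exact M.pow_mem hy m
  refine ⟨hM, ?_, twoPart_isPGroup, ?_, hfus, ?_⟩
  · obtain ⟨t, ht, ht2⟩ := h2
    intro e
    have h3 : t ∈ twoPart T hab := ⟨ht, 1, by rw [pow_one, ← ht2]; exact pow_orderOf_eq_one t⟩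
    rw [e, mem_bot] at h3
    rw [h3, orderOf_one] at ht2
    exact absurd ht2 (by norm_num)
  · intro a ha ha1 y hy
    refine hfus y a ha ha1 ?_
    have h3 : y * a = a * y := (mem_centralizer_iff.1 hy a rfl).symm
    rw [h3, mul_inv_cancel_right]
    exact hTM ha.1
  · -- a Sylow 2-subgroup of `N_M(T)`
    set N : Subgroup Y := M ⊓ normalizer (T : Set Y) with hN
    have hAN : twoPart T hab ≤ N := fun a ha => ⟨hTM ha.1, le_normalizer ha.1⟩
    obtain ⟨P0, hP0⟩ := (twoPart_isPGroup (hab := hab).comap_of_injective N.subtype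
      N.subtype_injective).exists_le_sylow
    set P : Subgroup Y := (P0 : Subgroup N).map N.subtype with hP
    have hPN : P ≤ N := by
      rintro _ ⟨x, -, rfl⟩
      exact x.2
    have hAP : twoPart T hab ≤ P := fun a ha => ⟨⟨a, hAN ha⟩, hP0 ha, rfl⟩
    have hPP : IsPGroup 2 P := P0.2.map _
    have hcompl : IsComplement' (Q.subgroupOf M) (N.subgroupOf M) := by
      refine isComplement'_of_disjoint_and_mul_eq_univ ?_ ?_
      · rw [disjoint_iff, eq_bot_iff]
        rintro x ⟨hx1, hx2⟩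
        exact Subtype.ext (hQN x hx1 (mem_inf.1 (mem_subgroupOf.1 hx2)).2)
      · rw [Set.eq_univ_iff_forall]
        intro m
        obtain ⟨u, hu, n, hn, e⟩ := hdec m m.2
        have hnM : n ∈ M := by
          have : n = u⁻¹ * m := by rw [e, inv_mul_cancel_left]
          rw [this]
          exact M.mul_mem (M.inv_mem (hQM hu)) m.2
        exact ⟨⟨u, hQM hu⟩, mem_subgroupOf.2 hu, ⟨n, hnM⟩, mem_subgroupOf.2 ⟨hnM, hn⟩, Subtype.ext e.symm⟩
    have hidx : ¬ 2 ∣ P.relIndex M := by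
      rw [← relIndex_mul_relIndex P N M hPN inf_le_left, Nat.prime_two.dvd_mul, not_or]
      constructor
      · have h3 : P.subgroupOf N = P0 := by
          rw [hP, subgroupOf, comap_map_eq_self_of_injective N.subtype_injective]
        rw [relIndex, h3]
        exact P0.not_dvd_index
      · have h3 := hcompl.index_eq_card
        rw [relIndex, h3, Nat.card_congr (subgroupOfEquivOfLe hQM).toEquiv]
        rw [← even_iff_two_dvd, Nat.not_even_iff_odd]
        exact hQ
    refine ⟨P, hAP, hPN.trans inf_le_left, hPP, ?_, ?_⟩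
    · intro R hR hPR hRM
      have h3 : IsPGroup 2 (P.subgroupOf M) := hPP.comap_of_injective M.subtype M.subtype_injective
      have h4 : IsPGroup 2 (R.subgroupOf M) := hR.comap_of_injective M.subtype M.subtype_injective
      have h5 := (h3.toSylow hidx).is_maximal' h4 (fun x hx => hPR hx)
      intro x hx
      have h6 : (⟨x, hRM hx⟩ : M) ∈ R.subgroupOf M := hx
      rw [h5] at h6
      exact h6
    · intro m hm a ha hma
      obtain ⟨u, hu, n, hn, rfl⟩ := hdec m hm
      have ha' : n * a * n⁻¹ ∈ twoPart T hab := twoPart_conj hn ha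
      set b := n * a * n⁻¹ with hb
      have e : u * n * a * (u * n)⁻¹ = u * b * u⁻¹ := by
        rw [hb]
        group
      rw [e] at hma ⊢
      have hcN : u * b * u⁻¹ * b⁻¹ ∈ normalizer (T : Set Y) :=
        mul_mem (hPN hma).2 (inv_mem (le_normalizer ha'.1))
      have hcQ : u * b * u⁻¹ * b⁻¹ ∈ Q := by
        have h3 := (mem_normalizer_iff.1 (hMQ (hTM ha'.1)) u⁻¹).1 (Q.inv_mem hu)
        have := Q.mul_mem hu h3
        simpa [mul_assoc] using this
      have h4 := hQN _ hcQ hcN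
      have h5 : u * b * u⁻¹ = b := by
        have := congrArg (· * b) h4
        simpa [mul_assoc] using this
      rw [h5]
      exact ha'

end Of

end Cfsg.Agent.H412.OT.SE
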