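import Mathlib

/-!
# Abelian 2-groups with at most one involution; groups with such a Sylow 2-subgroup (helper412, for S2539)

`isCyclic_of_omega` is helper456's proof (H456.FourB), repeated to keep the imports small.
-/

set_option autoImplicit false

namespace Cfsg.Agent.H412.OT.Cyc

/-- a finite abelian group with few elements of prime order is cyclic -/
theorem isCyclic_of_omega {A : Type*} [CommGroup A] [Finite A]
    (h : ∀ t : ℕ, t.Prime → Nat.card {a : A // a ^ t = 1} ≤ t) : IsCyclic A := by
  classical
  have : Fintype A := Fintype.ofFinite A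
  have key : ∀ n : ℕ, 0 < n → Nat.card {a : A // a ^ n = 1} ≤ n := by
    intro n
    induction n using Nat.strong_induction_on with
    | _ n ih =>
      intro hn
      by_cases hn1 : n = 1
      · subst hn1
        have : Subsingleton {a : A // a ^ 1 = 1} := ⟨fun a b => Subtype.ext (by
          have ha := a.2
          have hb := b.2
          rw [pow_one] at ha hb
          rw [ha, hb])⟩
        exact Finite.card_le_one_iff_subsingleton.2 this
      obtain ⟨t, ht, m, rfl⟩ := Nat.exists_prime_and_dvd hn1
      have hm : 0 < m := Nat.pos_of_mul_pos_left hn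
      have hmlt : m < t * m := by
        have := ht.two_le
        nlinarith
      have ihm := ih m hmlt hm
      have hct := h t ht
      let f : {a : A // a ^ (t * m) = 1} → {a : A // a ^ m = 1} := fun a => ⟨a.1 ^ t, by
        rw [← pow_mul]; exact a.2⟩
      have hcard : Nat.card {a : A // a ^ (t * m) = 1} ≤
          Nat.card {a : A // a ^ m = 1} * Nat.card {a : A // a ^ t = 1} := by
        have hne : Nonempty {a : A // a ^ (t * m) = 1} := ⟨⟨1, one_pow _⟩⟩
        let g : {a : A // a ^ (t * m) = 1} → {a : A // a ^ m = 1} × {a : A // a ^ t = 1} :=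
          fun a => ⟨f a, ⟨a.1 * ((Function.invFun f (f a)).1)⁻¹, by
            have h1 : f (Function.invFun f (f a)) = f a := Function.invFun_eq ⟨a, rfl⟩
            have h2 : (Function.invFun f (f a)).1 ^ t = a.1 ^ t := congrArg Subtype.val h1
            rw [mul_pow, inv_pow, h2, mul_inv_cancel]⟩⟩
        rw [← Nat.card_prod]
        apply Nat.card_le_card_of_injective g
        intro a b hab
        have h1 : f a = f b := congrArg Prod.fst hab
        have h2 := congrArg (fun t => (t.2 : A)) hab
        simp only [g] at h2
        rw [h1] at h2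
        exact Subtype.ext (mul_right_cancel h2)
      calc Nat.card {a : A // a ^ (t * m) = 1} ≤
          Nat.card {a : A // a ^ m = 1} * Nat.card {a : A // a ^ t = 1} := hcard
        _ ≤ m * t := Nat.mul_le_mul ihm hct
        _ = t * m := mul_comm _ _
  refine isCyclic_of_card_pow_eq_one_le fun n hn => ?_
  have := key n hn
  rwa [Nat.card_eq_fintype_card, Fintype.card_subtype] at this

/-- an abelian 2-group without two different involutions is cyclic -/
theorem isCyclic_of_two {A : Type*} [Group A] [Finite A] (hab : ∀ a b : A, a * b = b * a) (hA : IsPGroup 2 A)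
    (h : ∀ a b : A, orderOf a = 2 → orderOf b = 2 → a = b) : IsCyclic A := by
  classical
  let _ : CommGroup A := { mul_comm := hab }
  refine isCyclic_of_omega fun t ht => ?_
  by_cases ht2 : t = 2
  · subst ht2
    by_cases hex : ∃ a : A, orderOf a = 2
    · obtain ⟨a, ha⟩ := hex
      have hsub : ({x | x ^ 2 = 1} : Set A) ⊆ {1, a} := by
        intro b hb
        by_cases hb1 : b = 1
        · exact Or.inl hb1
        · exact Or.inr (h b a (orderOf_eq_prime hb hb1) ha)
      calc Nat.card {a : A // a ^ 2 = 1} = ({x | x ^ 2 = 1} : Set A).ncard := rfl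
        _ ≤ ({1, a} : Set A).ncard := Set.ncard_le_ncard hsub (Set.toFinite _)
        _ ≤ 2 := (Set.ncard_insert_le _ _).trans (by rw [Set.ncard_singleton])
    · have : Subsingleton {a : A // a ^ 2 = 1} := ⟨fun x y => Subtype.ext (by
        have hx : ∀ z : {a : A // a ^ 2 = 1}, (z : A) = 1 := fun z => by
          by_contra hz
          exact hex ⟨z, orderOf_eq_prime z.2 hz⟩
        rw [hx x, hx y])⟩
      have := Finite.card_le_one_iff_subsingleton.2 this
      omega
  · have : Subsingleton {a : A // a ^ t = 1} := ⟨fun x y => Subtype.ext (by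
      have hx : ∀ z : {a : A // a ^ t = 1}, (z : A) = 1 := fun z => by
        have h1 : orderOf (z : A) ∣ t := orderOf_dvd_of_pow_eq_one z.2
        obtain ⟨k, hk⟩ := hA (z : A)
        have h2 : orderOf (z : A) ∣ 2 ^ k := orderOf_dvd_of_pow_eq_one hk
        have h3 : Nat.Coprime t (2 ^ k) := by
          refine Nat.Coprime.pow_right _ ((Nat.coprime_primes ht Nat.prime_two).2 ht2)
        have h4 : orderOf (z : A) = 1 := Nat.eq_one_of_dvd_coprimes h3 h1 h2
        exact orderOf_eq_one_iff.1 h4
      rw [hx x, hx y])⟩
    have := Finite.card_le_one_iff_subsingleton.2 this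
    have := ht.two_le
    omega

/-- a group of even order with a cyclic Sylow 2-subgroup has a normal subgroup of odd order with a solvable (cyclic)
quotient -/
theorem isSolvable_of_cyclic {X : Type*} [Group X] [Finite X]
    (hodd : ∀ K : Subgroup X, Odd (Nat.card K) → Group.IsSolvable K) (P : Sylow 2 X) (hP : IsCyclic P) :
    Group.IsSolvable X := by
  classical
  have : Fact (Nat.Prime 2) := ⟨Nat.prime_two⟩
  by_cases h2 : 2 ∣ Nat.card X
  · have hmin : (Nat.card X).minFac = 2 := (Nat.minFac_eq_two_iff _).2 h2
    have hc := IsCyclic.isComplement' hmin hP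
    set f := MonoidHom.transferSylow P (hP.normalizer_le_centralizer hmin) with hf
    have hK : Odd (Nat.card f.ker) := by
      rw [← Nat.not_even_iff_odd, even_iff_two_dvd]
      exact MonoidHom.not_dvd_card_ker_transferSylow P (hP.normalizer_le_centralizer hmin)
    have h1 := hodd _ hK
    have h3 : Group.IsSolvable (P : Subgroup X) :=
      Group.isSolvable_of_comm fun a b => hP.commGroup.mul_comm a b
    exact Group.isSolvable_of_ker_le_range f.ker.subtype f (by rw [Subgroup.range_subtype])
  · have h1 := hodd ⊤ (by
      rw [Subgroup.card_top, ← Nat.not_even_iff_odd, even_iff_two_dvd]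
      exact h2)
    exact Group.isSolvable_of_isSolvable_injective (f := (Subgroup.topEquiv (G := X)).symm.toMonoidHom)
      (Subgroup.topEquiv (G := X)).symm.injective

end Cfsg.Agent.H412.OT.Cyc
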