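import Cfsg.Agent.H412.OT.Build
import Cfsg.Agent.H412.OT.Cyc
import Cfsg.Agent.Lib.Cores
import Cfsg.Agent.S3289
import Cfsg.Agent.S1221
import Cfsg.Agent.S1225
import Cfsg.Agent.H971.Bender
import Cfsg.Agent.StrongEmb.Main
import Cfsg.Agent.S0205

/-!
# S2539, q odd: the ends (helper412)

`h : Data M A` (file SE), `X` = normal closure of `A` in `Y`.
`Data.strong` : `M ⊓ X` is strongly embedded in `X`.
`Data.solvable` (end_a) : `A` abelian implies `M ⊓ X` solvable.
`Data.odd_core` : subgroups `B ≤ M ⊓ X` of odd order normalised by `M ⊓ X` lie in `O(X)`.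
`Data.core_le` : `O(Y) ≤ M` if `A` contains a four-group (`exists_four`).
`Data.exists_conj` : the involutions of `M ⊓ X` are conjugate in `M ⊓ X`.
`comm_of_odd` : end_b for `M = Q N_M(T)`.
`Data.end_b` : `A` centralises every `p`-subgroup `Q ⊴ M`, if `p ≠ 2`, `O_p(Y) = 1` and `A` contains a four-group.
-/

set_option autoImplicit false

universe u

namespace Cfsg.Agent.H412.OT.SE

open Subgroup

variable {Y : Type u} [Group Y]

namespace Data

variable {M A : Subgroup Y} (h : Data M A) [Finite Y]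

include h

theorem strong : ∃ P : Sylow 2 Y, (P : Subgroup Y) ≤ M ∧ Cfsg.IsStronglyClosed A (P : Subgroup Y) ∧
    Cfsg.IsStronglyEmbedded ((M ⊓ normalClosure (A : Set Y)).subgroupOf (normalClosure (A : Set Y))) ∧
    (A = (P : Subgroup Y) ⊓ normalClosure (A : Set Y) ∨
      A = Cfsg.omegaOne 2 ((P : Subgroup Y) ⊓ normalClosure (A : Set Y))) ∧
    (Cfsg.PRankLE 2 1 ↥A → A = (P : Subgroup Y) ⊓ normalClosure (A : Set Y)) := by
  obtain ⟨P, hPM, hsc⟩ := h.exists_sylow
  obtain ⟨h1, h2, h3⟩ := Cfsg.Agent.S3289.result P A h.ne_bot hsc M h.ne_top h.cent h.norm_omega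
  exact ⟨P, hPM, hsc, h1, h2, h3⟩

theorem strong' : Cfsg.IsStronglyEmbedded
    ((M ⊓ normalClosure (A : Set Y)).subgroupOf (normalClosure (A : Set Y))) := by
  obtain ⟨P, -, -, h1, -⟩ := h.strong
  exact h1

theorem not_le : ¬ normalClosure (A : Set Y) ≤ M := by
  intro hle
  refine h.strong'.1 ?_
  rw [subgroupOf_eq_top]
  exact le_inf hle le_rfl

/-- if `A` is abelian then `X` is solvable or has two different commuting involutions -/
theorem commPair_or (hab : ∀ a ∈ A, ∀ b ∈ A, a * b = b * a) :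
    Cfsg.Agent.StrongEmb.TwoRank.CommPair ↥(normalClosure (A : Set Y)) ∨
      Group.IsSolvable ↥(normalClosure (A : Set Y)) := by
  classical
  by_cases hc : Cfsg.Agent.StrongEmb.TwoRank.CommPair ↥(normalClosure (A : Set Y))
  · exact Or.inl hc
  right
  have : Fact (Nat.Prime 2) := ⟨Nat.prime_two⟩
  obtain ⟨P, hPM, hsc, h1, h2, h3⟩ := h.strong
  have hAX : A ≤ normalClosure (A : Set Y) := subset_normalClosure
  have huniq : ∀ a b : A, orderOf a = 2 → orderOf b = 2 → a = b := by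
    intro a b ha hb
    by_contra hne
    exact hc (Cfsg.Agent.StrongEmb.TwoRank.commPair_subgroup (hAX a.2) (hAX b.2)
      ((Subgroup.orderOf_coe a).trans ha) ((Subgroup.orderOf_coe b).trans hb) (fun e => hne (Subtype.ext e))
      (hab a a.2 b b.2))
  have hcyc : IsCyclic A :=
    Cyc.isCyclic_of_two (fun a b => Subtype.ext (hab a a.2 b b.2)) h.isP huniq
  have hrank : Cfsg.PRankLE 2 1 ↥A := by
    intro B hB hB2
    rw [pow_one]
    by_cases hex : ∃ a ∈ B, a ≠ 1
    · obtain ⟨a, ha, ha1⟩ := hex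
      have hsub : (B : Set A) ⊆ {1, a} := by
        intro b hb
        by_cases hb1 : b = 1
        · exact Or.inl hb1
        · exact Or.inr (huniq b a (orderOf_eq_prime (hB2 b hb) hb1) (orderOf_eq_prime (hB2 a ha) ha1))
      calc Nat.card B = (B : Set A).ncard := rfl
        _ ≤ ({1, a} : Set A).ncard := Set.ncard_le_ncard hsub (Set.toFinite _)
        _ ≤ 2 := (Set.ncard_insert_le _ _).trans (by rw [Set.ncard_singleton])
    · push Not at hex
      have hb : B = ⊥ := by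
        rw [eq_bot_iff]
        intro x hx
        exact Subgroup.mem_bot.mpr (hex x hx)
      rw [hb, Subgroup.card_bot]
      norm_num
  have hA := h3 hrank
  -- Sylow 2-subgroups of `X` embed in `A`
  obtain ⟨R⟩ : Nonempty (Sylow 2 ↥(normalClosure (A : Set Y))) := inferInstance
  refine Cyc.isSolvable_of_cyclic (fun K hK => Cfsg.Agent.S0205.result hK) R ?_
  have hR : IsPGroup 2 ((R : Subgroup ↥(normalClosure (A : Set Y))).map (normalClosure (A : Set Y)).subtype) :=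
    R.2.map _
  obtain ⟨P1, hP1⟩ := hR.exists_le_sylow
  obtain ⟨g, hg⟩ := MulAction.exists_smul_eq Y P1 P
  have hmem : ∀ x : (R : Subgroup ↥(normalClosure (A : Set Y))), g * ((x : ↥(normalClosure (A : Set Y))) : Y) * g⁻¹ ∈ A := by
    intro x
    refine hA.symm.le ⟨?_, normalClosure_normal.conj_mem _ x.1.2 g⟩
    rw [← hg]
    exact ⟨_, hP1 ⟨x, x.2, rfl⟩, rfl⟩
  let φ : (R : Subgroup ↥(normalClosure (A : Set Y))) →* A :=
    { toFun := fun x => ⟨g * ((x : ↥(normalClosure (A : Set Y))) : Y) * g⁻¹, hmem x⟩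
      map_one' := by
        apply Subtype.ext
        simp
      map_mul' := fun x y => by
        apply Subtype.ext
        simp [mul_assoc] }
  have hφ : Function.Injective φ := by
    intro x y hxy
    have := congrArg Subtype.val hxy
    have h4 : g * ((x : ↥(normalClosure (A : Set Y))) : Y) * g⁻¹ =
      g * ((y : ↥(normalClosure (A : Set Y))) : Y) * g⁻¹ := this
    have h5 := mul_left_cancel (mul_right_cancel h4)
    exact Subtype.ext (Subtype.ext h5)
  exact isCyclic_of_injective φ hφ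

/-- **end_a** : if `A` is abelian then `M ⊓ X` is solvable -/
theorem solvable (hab : ∀ a ∈ A, ∀ b ∈ A, a * b = b * a) :
    Group.IsSolvable ↥(M ⊓ normalClosure (A : Set Y)) := by
  have key : Group.IsSolvable ↥((M ⊓ normalClosure (A : Set Y)).subgroupOf (normalClosure (A : Set Y))) := by
    rcases h.commPair_or hab with hc | hc
    · exact Cfsg.Agent.H971.Bender.isSolvable_of_commPair
        (fun K _ _ => Cfsg.Agent.StrongEmb.Main.bender K)
        (fun K _ _ hK => Cfsg.Agent.S0205.result hK) h.strong' hc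
    · infer_instance
  exact Group.isSolvable_of_isSolvable_injective
    (f := (subgroupOfEquivOfLe (inf_le_right : M ⊓ normalClosure (A : Set Y) ≤ _)).symm.toMonoidHom)
    (subgroupOfEquivOfLe _).symm.injective

/-- every subgroup of `M ⊓ X` is solvable -/
theorem solvable_of_le (hab : ∀ a ∈ A, ∀ b ∈ A, a * b = b * a) {B : Subgroup Y} (hBM : B ≤ M)
    (hBX : B ≤ normalClosure (A : Set Y)) : Group.IsSolvable ↥B := by
  have := h.solvable hab
  exact Group.isSolvable_of_isSolvable_injective (f := Subgroup.inclusion (le_inf hBM hBX))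
    (Subgroup.inclusion_injective _)

/-- subgroups of `M ⊓ X` of odd order normalised by `M ⊓ X` lie in `O(Y)` -/
theorem odd_core {B : Subgroup Y} (hBM : B ≤ M) (hBX : B ≤ normalClosure (A : Set Y))
    (hodd : Odd (Nat.card B)) (hN : M ⊓ normalClosure (A : Set Y) ≤ normalizer (B : Set Y)) :
    B ≤ Cfsg.pPrimeCore 2 Y := by
  have h1 := Cfsg.Agent.S1221.result _ h.strong'
  have h4 : (Cfsg.pPrimeCore 2 ↥(normalClosure (A : Set Y))).map (normalClosure (A : Set Y)).subtype =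
    normalClosure (A : Set Y) ⊓ Cfsg.pPrimeCore 2 Y :=
    Cfsg.Agent.Lib.Cores.map_subtype_pPrimeCore 2 normalClosure_normal
  set X := normalClosure (A : Set Y) with hX
  set H := (M ⊓ X).subgroupOf X with hH
  have hBH : B.subgroupOf X ≤ H := fun x hx => mem_subgroupOf.2 ⟨hBM (mem_subgroupOf.1 hx), x.2⟩
  have hn : ((B.subgroupOf X).subgroupOf H).Normal := by
    constructor
    intro x hx y
    have hy := mem_subgroupOf.1 y.2
    exact (mem_normalizer_iff.1 (hN hy) _).1 hx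
  have hc : (Nat.card ((B.subgroupOf X).subgroupOf H)).Coprime 2 := by
    rw [Nat.card_congr (subgroupOfEquivOfLe hBH).toEquiv, Nat.card_congr (subgroupOfEquivOfLe hBX).toEquiv,
      Nat.coprime_two_right]
    exact hodd
  have h2 := Cfsg.Agent.Lib.Cores.le_pPrimeCore hn hc
  intro b hb
  have hbH : (⟨b, hBX hb⟩ : X) ∈ H := hBH (mem_subgroupOf.2 hb)
  have h3 : (⟨⟨b, hBX hb⟩, hbH⟩ : H) ∈ (B.subgroupOf X).subgroupOf H := hb
  have h5 : b ∈ (Cfsg.pPrimeCore 2 ↥X).map X.subtype :=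
    ⟨⟨b, hBX hb⟩, h1 ⟨⟨⟨b, hBX hb⟩, hbH⟩, h2 h3, rfl⟩, rfl⟩
  rw [h4] at h5
  exact h5.2

/-- `O(Y)` lies in `M` if `A` contains a four-group -/
theorem core_le {E : Subgroup Y} (hE : Cfsg.IsElementaryAbelian 2 E) (hE2 : 2 ^ 2 ≤ Nat.card E) (hEA : E ≤ A) :
    Cfsg.pPrimeCore 2 Y ≤ M := by
  have : (Cfsg.pPrimeCore 2 Y).Normal := Cfsg.Agent.Lib.Cores.pPrimeCore_normal 2
  refine h.odd_le hE hE2 hEA ?_ ?_
  · exact Nat.coprime_two_right.1 (Cfsg.Agent.Lib.Cores.pPrimeCore_coprime 2)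
  · rw [normalizer_eq_top]
    exact le_top

/-- **end_b**, first form: `Q ⊓ X = 1` for every `p`-subgroup `Q ⊴ M`, `p ≠ 2`, if `O_p(Y) = 1` -/
theorem inf_eq_bot {E : Subgroup Y} (hE : Cfsg.IsElementaryAbelian 2 E) (hE2 : 2 ^ 2 ≤ Nat.card E) (hEA : E ≤ A)
    {p : ℕ} [hp : Fact p.Prime] (hp2 : p ≠ 2) (hop : Cfsg.pCore p Y = ⊥) {Q : Subgroup Y} (hQM : Q ≤ M)
    (hQ : IsPGroup p Q) (hMQ : M ≤ normalizer (Q : Set Y)) : Q ⊓ normalClosure (A : Set Y) = ⊥ := by
  have hO := h.core_le hE hE2 hEA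
  have hXn : (normalClosure (A : Set Y)).Normal := normalClosure_normal
  have hodd : Odd (Nat.card ↥(Q ⊓ normalClosure (A : Set Y))) := by
    obtain ⟨n, hn⟩ := IsPGroup.iff_card.1 (hQ.to_le (inf_le_left : Q ⊓ normalClosure (A : Set Y) ≤ Q))
    rw [hn]
    exact (hp.1.odd_of_ne_two hp2).pow
  have hnorm : M ≤ normalizer ((Q ⊓ normalClosure (A : Set Y) : Subgroup Y) : Set Y) := by
    intro m hm
    rw [mem_normalizer_iff]
    intro x
    rw [mem_inf, mem_inf, mem_normalizer_iff.1 (hMQ hm) x]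
    exact and_congr_right fun _ => ⟨fun hx => hXn.conj_mem x hx m, fun hx => by
      have := hXn.conj_mem _ hx m⁻¹
      simpa [mul_assoc] using this⟩
  have h1 := h.odd_core (inf_le_left.trans hQM) inf_le_right hodd (inf_le_left.trans hnorm)
  have hOn : (Cfsg.pPrimeCore 2 Y).Normal := Cfsg.Agent.Lib.Cores.pPrimeCore_normal 2
  have h2 : ((Q ⊓ normalClosure (A : Set Y)).subgroupOf (Cfsg.pPrimeCore 2 Y)).Normal := by
    constructor
    intro x hx y
    exact (mem_normalizer_iff.1 (hnorm (hO y.2)) _).1 hx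
  have h3 := Cfsg.Agent.Lib.Cores.le_pCore h2
    ((hQ.to_le (inf_le_left : Q ⊓ normalClosure (A : Set Y) ≤ Q)).comap_of_injective _
      (Cfsg.pPrimeCore 2 Y).subtype_injective)
  have h4 := Cfsg.Agent.Lib.Cores.map_subtype_pCore p hOn
  rw [hop, inf_bot_eq] at h4
  rw [eq_bot_iff, ← h4]
  intro x hx
  exact ⟨⟨x, h1 hx⟩, h3 hx, rfl⟩

/-- **end_b** : `A` centralises every `p`-subgroup `Q ⊴ M`, `p ≠ 2`, if `O_p(Y) = 1` -/
theorem end_b {E : Subgroup Y} (hE : Cfsg.IsElementaryAbelian 2 E) (hE2 : 2 ^ 2 ≤ Nat.card E) (hEA : E ≤ A)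
    {p : ℕ} [hp : Fact p.Prime] (hp2 : p ≠ 2) (hop : Cfsg.pCore p Y = ⊥) {Q : Subgroup Y} (hQM : Q ≤ M)
    (hQ : IsPGroup p Q) (hMQ : M ≤ normalizer (Q : Set Y)) {a x : Y} (ha : a ∈ A) (hx : x ∈ Q) :
    a * x = x * a := by
  have h1 := h.inf_eq_bot hE hE2 hEA hp2 hop hQM hQ hMQ
  have hXn : (normalClosure (A : Set Y)).Normal := normalClosure_normal
  have haX : a ∈ normalClosure (A : Set Y) := subset_normalClosure ha
  have h2 : a * x * a⁻¹ * x⁻¹ ∈ Q ⊓ normalClosure (A : Set Y) := by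
    constructor
    · exact mul_mem ((mem_normalizer_iff.1 (hMQ (h.le ha)) x).1 hx) (Q.inv_mem hx)
    · have h3 := hXn.conj_mem _ ((normalClosure (A : Set Y)).inv_mem haX) x
      have := (normalClosure (A : Set Y)).mul_mem haX h3
      simpa [mul_assoc] using this
  rw [h1, mem_bot] at h2
  have h3 : a * x * a⁻¹ = x := by
    have := congrArg (· * x) h2
    simpa [mul_assoc] using this
  have := congrArg (· * a) h3
  simpa [mul_assoc] using this

/-- any two involutions of `M ⊓ X` are conjugate in `M ⊓ X` -/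
theorem exists_conj {s t : Y} (hsM : s ∈ M) (hsX : s ∈ normalClosure (A : Set Y)) (hs : orderOf s = 2)
    (htM : t ∈ M) (htX : t ∈ normalClosure (A : Set Y)) (ht : orderOf t = 2) :
    ∃ m ∈ M ⊓ normalClosure (A : Set Y), m * s * m⁻¹ = t := by
  obtain ⟨a, ha, ha2⟩ := h.exists_involution
  have ha1 : a ≠ 1 := by
    rintro rfl
    rw [orderOf_one] at ha2
    exact absurd ha2 (by norm_num)
  obtain ⟨y, -, hy⟩ := SetLike.exists_of_lt (lt_top_iff_ne_top.2 h.ne_top)
  have hu : y * a * y⁻¹ ∉ M := fun hu => hy (h.fus y a ha ha1 hu)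
  have huX : y * a * y⁻¹ ∈ normalClosure (A : Set Y) :=
    normalClosure_normal.conj_mem a (subset_normalClosure ha) y
  have hu2 : orderOf (y * a * y⁻¹) = 2 := by
    rw [← ha2]
    exact orderOf_injective (MulAut.conj y).toMonoidHom (MulAut.conj y).injective a
  have key := (Cfsg.Agent.S1225.result _ h.strong' ⟨y * a * y⁻¹, huX⟩ (by rw [Subgroup.orderOf_mk, hu2])
    (fun hm => hu (mem_subgroupOf.1 hm).1) ⟨s, hsX⟩ ⟨t, htX⟩ (by rw [Subgroup.orderOf_mk, hs])
    (mem_subgroupOf.2 ⟨hsM, hsX⟩) (by rw [Subgroup.orderOf_mk, ht]) (mem_subgroupOf.2 ⟨htM, htX⟩)).1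
  obtain ⟨d, hd, e⟩ := key
  exact ⟨d, mem_subgroupOf.1 hd.1, congrArg Subtype.val e⟩

end Data

/-- **end_b** for `M = Q (M ⊓ N(T))`, `Q ⊴ M` a `p`-group, `p ≠ 2`, `Q ⊓ N(T) = 1`, `O_p(Y) = 1` : if no involution of `T`
is conjugate into `M` by an element outside of `M` and `T` has two different involutions then the 2-elements of `T`
centralise `Q` -/
theorem comm_of_odd [Finite Y] {T M Q : Subgroup Y} {p : ℕ} [hp : Fact p.Prime] (hp2 : p ≠ 2)
    (hab : ∀ a ∈ T, ∀ b ∈ T, a * b = b * a) (hM : M ≠ ⊤) (hTM : T ≤ M)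
    (hno : ∀ y : Y, y ∉ M → ∀ t ∈ T, orderOf t = 2 → y * t * y⁻¹ ∉ M)
    {s t : Y} (hs : s ∈ T) (ht : t ∈ T) (hs2 : orderOf s = 2) (ht2 : orderOf t = 2) (hne : s ≠ t)
    (hQM : Q ≤ M) (hQ : IsPGroup p Q) (hMQ : M ≤ normalizer (Q : Set Y))
    (hQN : ∀ x ∈ Q, x ∈ normalizer (T : Set Y) → x = 1)
    (hdec : ∀ m ∈ M, ∃ u ∈ Q, ∃ n ∈ normalizer (T : Set Y), m = u * n)
    (hop : Cfsg.pCore p Y = ⊥) {a x : Y} (ha : a ∈ T) {k : ℕ} (hak : a ^ 2 ^ k = 1) (hx : x ∈ Q) :
    a * x = x * a := by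
  have hodd : Odd (Nat.card Q) := by
    obtain ⟨n, hn⟩ := IsPGroup.iff_card.1 hQ
    rw [hn]
    exact (hp.1.odd_of_ne_two hp2).pow
  have h := Data.of_odd hab hM hTM hno ⟨s, hs, hs2⟩ hQM hodd hMQ hQN hdec
  obtain ⟨E, hE, hE2, hEA⟩ := exists_four (A := twoPart T hab) twoPart_comm
    (s := s) (t := t) ⟨hs, 1, by rw [pow_one, ← hs2]; exact pow_orderOf_eq_one s⟩
    ⟨ht, 1, by rw [pow_one, ← ht2]; exact pow_orderOf_eq_one t⟩ hs2 ht2 hne
  exact h.end_b hE hE2 hEA hp2 hop hQM hQ hMQ (a := a) ⟨ha, k, hak⟩ hx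

end Cfsg.Agent.H412.OT.SE
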