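import Mathlib
import Cfsg.Prelude.Def_TwoFusion
import Cfsg.Prelude.Def_PLocal
import Cfsg.Prelude.Def_Involutions
import Cfsg.Prelude.Def_CaseTheorems
import Cfsg.Agent.SignalizersComponents.CoprimeGen

/-!
# S2539, q odd: from "`T ^ y ∩ M` has odd order for `y ∉ M`" to strongly closed subgroups (helper412)

`Data M A` : `A ≠ 1` a 2-subgroup of the proper subgroup `M`, `C(a) ≤ M` and `y a y⁻¹ ∈ M → y ∈ M` for `1 ≠ a ∈ A`,
`A` strongly closed in a Sylow 2-subgroup of `M` with respect to `M`.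
`Data.exists_sylow` : `A` is strongly closed in a Sylow 2-subgroup `P ≤ M` of `Y`; `Data.norm_omega`;
`Data.odd_le` : normal subgroups of odd order lie in `M` (`A` of rank at least two).
-/

set_option autoImplicit false

namespace Cfsg.Agent.H412.OT.SE

open Subgroup

variable {Y : Type*} [Group Y]

/-- See the module docstring. -/
structure Data (M A : Subgroup Y) : Prop where
  ne_top : M ≠ ⊤
  ne_bot : A ≠ ⊥
  isP : IsPGroup 2 A
  cent : ∀ a ∈ A, a ≠ 1 → centralizer ({a} : Set Y) ≤ M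
  fus : ∀ y : Y, ∀ a ∈ A, a ≠ 1 → y * a * y⁻¹ ∈ M → y ∈ M
  syl : ∃ P : Subgroup Y, A ≤ P ∧ P ≤ M ∧ IsPGroup 2 P ∧
    (∀ R : Subgroup Y, IsPGroup 2 R → P ≤ R → R ≤ M → R ≤ P) ∧
    ∀ m ∈ M, ∀ a ∈ A, m * a * m⁻¹ ∈ P → m * a * m⁻¹ ∈ A

namespace Data

variable {M A : Subgroup Y} (h : Data M A)

include h

theorem le : A ≤ M := by
  obtain ⟨P, hAP, hPM, -⟩ := h.syl
  exact hAP.trans hPM

theorem exists_ne_one : ∃ a ∈ A, a ≠ 1 := (Subgroup.ne_bot_iff_exists_ne_one.1 h.ne_bot).elim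
  fun a ha => ⟨a, a.2, fun h1 => ha (Subtype.ext h1)⟩

/-- A subgroup normalised by `y`, contained in `M` and containing an element `a ≠ 1` of `A`. -/
theorem mem_of_normalizes {B : Subgroup Y} (hB : B ≤ M) {a : Y} (ha : a ∈ A) (ha1 : a ≠ 1) (haB : a ∈ B) {y : Y}
    (hy : y ∈ normalizer (B : Set Y)) : y ∈ M :=
  h.fus y a ha ha1 (hB ((mem_normalizer_iff.1 hy a).1 haB))

variable [Finite Y]

theorem exists_sylow : ∃ P : Sylow 2 Y, (P : Subgroup Y) ≤ M ∧ Cfsg.IsStronglyClosed A (P : Subgroup Y) := by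
  obtain ⟨P, hAP, hPM, hP, hmax, hsc⟩ := h.syl
  obtain ⟨P1, hPP1⟩ := hP.exists_le_sylow
  obtain ⟨a, ha, ha1⟩ := h.exists_ne_one
  have key : (P1 : Subgroup Y) ≤ P := by
    by_contra hne
    have hlt : P.subgroupOf (P1 : Subgroup Y) < ⊤ := by
      rw [lt_top_iff_ne_top]
      intro e
      exact hne (subgroupOf_eq_top.1 e)
    have : Fact (Nat.Prime 2) := ⟨Nat.prime_two⟩
    have hnil : Group.IsNilpotent (P1 : Subgroup Y) := P1.isPGroup'.isNilpotent
    have hN := Group.normalizerCondition_of_isNilpotent (G := (P1 : Subgroup Y)) _ hlt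
    obtain ⟨y, hyN, hyP⟩ := SetLike.exists_of_lt hN
    have hyP' : (y : Y) ∉ P := fun h' => hyP (mem_subgroupOf.2 h')
    have hyN' : (y : Y) ∈ normalizer (P : Set Y) := by
      rw [mem_normalizer_iff]
      intro x
      constructor
      · intro hx
        have := (mem_normalizer_iff.1 hyN ⟨x, hPP1 hx⟩).1 (mem_subgroupOf.2 hx)
        exact mem_subgroupOf.1 this
      · intro hx
        have hx1 : x ∈ (P1 : Subgroup Y) := by
          have := mul_mem (mul_mem (inv_mem y.2) (hPP1 hx)) y.2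
          simpa [mul_assoc] using this
        have := (mem_normalizer_iff.1 hyN ⟨x, hx1⟩).2 (mem_subgroupOf.2 hx)
        exact mem_subgroupOf.1 this
    have hyM : (y : Y) ∈ M := h.mem_of_normalizes hPM ha ha1 (hAP ha) hyN'
    have h1 : (P1 : Subgroup Y) ⊓ M ≤ P :=
      hmax _ (P1.isPGroup'.to_le inf_le_left) (le_inf hPP1 hPM) inf_le_right
    exact hyP' (h1 ⟨y.2, hyM⟩)
  refine ⟨P1, key.trans hPM, hAP.trans hPP1, ?_⟩
  intro x hx g hg
  by_cases hx1 : x = 1
  · subst hx1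
    simp
  · have hgM : g ∈ M := h.fus g x hx hx1 (hPM (key hg))
    exact hsc g hgM x hx (key hg)

theorem exists_involution : ∃ a ∈ A, orderOf a = 2 := by
  have : Fact (Nat.Prime 2) := ⟨Nat.prime_two⟩
  have hc : 2 ∣ Nat.card A := by
    obtain ⟨n, hn⟩ := IsPGroup.iff_card.1 h.isP
    rw [hn]
    refine dvd_pow_self 2 ?_
    rintro rfl
    rw [pow_zero] at hn
    exact h.ne_bot (Subgroup.card_eq_one.1 hn)
  obtain ⟨a, ha⟩ := exists_prime_orderOf_dvd_card' 2 hc
  exact ⟨a, a.2, by rw [← ha]; exact (Subgroup.orderOf_coe a)⟩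

theorem norm_omega : normalizer ((Cfsg.omegaOne 2 A : Subgroup Y) : Set Y) ≤ M := by
  obtain ⟨a, ha, ha2⟩ := h.exists_involution
  have ha1 : a ≠ 1 := by
    rintro rfl
    rw [orderOf_one] at ha2
    exact absurd ha2 (by norm_num)
  intro y hy
  have hA : Cfsg.omegaOne 2 A ≤ A := by
    unfold Cfsg.omegaOne
    rw [closure_le]
    rintro x ⟨hx, -⟩
    exact hx
  refine h.mem_of_normalizes (hA.trans h.le) ha ha1 ?_ hy
  exact subset_closure ⟨ha, by rw [← ha2]; exact pow_orderOf_eq_one a⟩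

/-- Subgroups of odd order normalised by `A` lie in `M`, if `A` contains a four-group. -/
theorem odd_le {E : Subgroup Y} (hE : Cfsg.IsElementaryAbelian 2 E) (hE2 : 2 ^ 2 ≤ Nat.card E) (hEA : E ≤ A)
    {O : Subgroup Y} (hO : Odd (Nat.card O)) (hEO : E ≤ normalizer (O : Set Y)) : O ≤ M := by
  have : Fact (Nat.Prime 2) := ⟨Nat.prime_two⟩
  have h1 := Cfsg.Agent.SignalizersComponents.CoprimeGen.le_iSup_centralizer_ne_one hE hE2
    (Z := O) (by rwa [← even_iff_two_dvd, Nat.not_even_iff_odd]) hEO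
  refine h1.trans (iSup_le ?_)
  rintro ⟨a, ha, ha1⟩
  exact inf_le_right.trans (h.cent a (hEA ha) ha1)

end Data

end Cfsg.Agent.H412.OT.SE
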